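import Cfsg.Agent.H3.Co1Mult.Engine
import Cfsg.Agent.H3.Co1Mult.Combo

/-!
The first Conway group: the certificate at 5.
-/

set_option autoImplicit false
set_option maxRecDepth 100000

namespace Cfsg.Agent.H3.Co1Mult.P5

open Cfsg.Agent Cfsg.Agent.H13.SylMult

/-- An element. -/
def m0 : H15.Mat := ⟨[[-3,1,1,1,1,1,1,1,-1,1,1,1,1,-1,1,-1,-1,1,3,3,3,-1,1,-3],[-1,-1,-1,-1,-1,-1,3,-1,1,-1,3,-1,-1,1,3,1,1,3,-3,1,1,1,-1,-1],[1,1,-3,1,-3,1,1,-3,-1,1,1,1,1,-1,1,-1,-1,-3,-1,3,-1,-1,1,1],[1,1,1,-3,1,-3,1,1,-1,1,1,1,1,-1,1,-1,3,-3,-1,-1,-1,-1,1,-3],[-1,3,-1,-1,-1,-1,-1,3,-3,-1,3,-1,-1,1,-1,1,1,-1,1,1,1,1,-1,3],[-1,-1,-1,-1,-1,-1,-1,-1,1,-5,-1,-1,3,1,-1,1,1,-1,1,1,1,-3,-1,-1],[3,-1,-1,-1,3,3,-1,-1,1,-1,3,-1,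-1,1,-1,-3,1,-1,1,1,1,1,-1,-1],[1,1,1,1,1,1,1,-3,-1,1,1,1,1,-1,1,3,3,1,3,-1,-1,-1,-3,1],[1,1,-3,-3,1,1,1,1,-1,1,-3,1,1,-1,1,-1,-1,1,-1,-1,3,-1,-3,1],[3,3,3,-1,-1,-1,-1,-1,1,-1,-1,-1,-1,1,3,1,-3,-1,1,1,1,1,-1,-1],[1,1,1,1,1,1,1,1,-1,1,-3,-3,1,3,1,-1,3,1,-1,3,-1,-1,1,1],[3,-1,-1,3,-1,-1,3,3,1,-1,-1,-1,-1,-3,-1,1,1,-1,1,1,1,1,-1,-1],[1,1,1,1,1,1,1,1,-1,-3,1,1,-3,-1,1,-1,-1,1,-1,-1,-1,-5,1,1],[1,1,-3,1,1,1,-3,1,-1,1,1,-3,1,-1,1,3,-1,1,-1,-1,-1,-1,1,-3],[1,1,1,-3,1,1,1,1,3,1,1,1,1,-1,-3,3,-1,1,-1,3,-1,-1,1,1],[-1,-1,-1,-1,-1,3,-1,3,1,-1,-1,3,-1,1,3,1,1,-1,1,1,-3,1,-1,-1],[-3,1,1,1,1,1,1,1,3,1,1,-3,1,-1,1,-1,-1,-3,-1,-1,-1,-1,-3,1],[1,-3,1,-3,-3,1,1,1,-1,1,1,-3,1,-1,1,-1,-1,1,3,-1,-1,-1,1,1],[1,1,1,1,1,1,1,1,-1,-3,1,1,5,-1,1,-1,-1,1,-1,-1,-1,3,1,1],[1,1,1,1,-3,1,-3,1,3,1,1,1,1,-1,1,-1,3,1,-1,-1,3,-1,1,1],[-1,3,-1,-1,-1,3,3,-1,1,-1,-1,-1,-1,1,-1,1,1,-1,1,-3,1,1,3,-1],[1,1,-3,1,1,-3,1,1,3,1,1,1,1,3,1,-1,-1,1,3,-1,-1,-1,1,1],[1,-3,1,1,1,1,1,1,-1,1,1,1,1,3,1,3,-1,-3,-1,-1,3,-1,1,1],[1,1,1,1,-3,1,1,1,-1,1,1,1,1,3,-3,-1,-1,1,-1,-1,-1,-1,-3,-3]],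
  [[-3,-1,1,1,-1,-1,3,1,1,3,1,3,1,1,1,-1,-3,1,1,1,-1,1,1,1],[1,-1,1,1,3,-1,-1,1,1,3,1,-1,1,1,1,-1,1,-3,1,1,3,1,-3,1],[1,-1,-3,1,-1,-1,-1,1,-3,3,1,-1,1,-3,1,-1,1,1,1,1,-1,-3,1,1],[1,-1,1,-3,-1,-1,-1,1,-3,-1,1,3,1,1,-3,-1,1,-3,1,1,-1,1,1,1],[1,-1,-3,1,-1,-1,3,1,1,-1,1,-1,1,1,1,-1,1,-3,1,-3,-1,1,1,-3],[1,-1,1,-3,-1,-1,3,1,1,-1,1,-1,1,1,1,3,1,1,1,1,3,-3,1,1],[1,3,1,1,-1,-1,-1,1,1,-1,1,3,1,-3,1,-1,1,1,1,-3,3,1,1,1],[1,-1,-3,1,3,-1,-1,-3,1,-1,1,3,1,1,1,3,1,1,1,1,-1,1,1,1],[-1,1,-1,-1,-3,1,1,-1,-1,1,-1,1,-1,-1,3,1,3,-1,-1,3,1,3,-1,-1],[1,-1,1,1,-1,-5,-1,1,1,-1,1,-1,-3,1,1,-1,1,1,-3,1,-1,1,1,1],[1,3,1,1,3,-1,3,1,-3,-1,-3,-1,1,1,1,-1,1,1,1,1,-1,1,1,1],[1,-1,1,1,-1,-1,-1,1,1,-1,-3,-1,1,-3,1,3,-3,-3,1,1,-1,1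,1,1],[1,-1,1,1,-1,3,-1,1,1,-1,1,-1,-3,1,1,-1,1,1,5,1,-1,1,1,1],[-1,1,-1,-1,1,1,1,-1,-1,1,3,-3,-1,-1,-1,1,-1,-1,-1,-1,1,3,3,3],[1,3,1,1,-1,-1,-1,1,1,3,1,-1,1,1,-3,3,1,1,1,1,-1,1,1,-3],[-1,1,-1,-1,1,1,-3,3,-1,1,-1,1,-1,3,3,1,-1,-1,-1,-1,1,-1,3,-1],[-1,1,-1,3,1,1,1,3,-1,-3,3,1,-1,-1,-1,1,-1,-1,-1,3,1,-1,-1,-1],[1,3,-3,-3,-1,-1,-1,1,1,-1,1,-1,1,1,1,-1,-3,1,1,1,-1,1,-3,1],[3,-3,-1,-1,1,1,1,3,-1,1,-1,1,-1,-1,-1,1,-1,3,-1,-1,1,3,-1,-1],[3,1,3,-1,1,1,1,-1,-1,1,3,1,-1,-1,3,1,-1,-1,-1,-1,-3,-1,-1,-1],[3,1,-1,-1,1,1,1,-1,3,1,-1,1,-1,-1,-1,-3,-1,-1,-1,3,1,-1,3,-1],[-1,1,-1,-1,1,-3,1,-1,-1,1,-1,1,-5,-1,-1,1,-1,-1,3,-1,1,-1,-1,-1],[1,-1,1,1,-1,-1,-1,-3,-3,-1,1,-1,1,1,1,-1,-3,1,1,1,3,1,1,-3],[-3,-1,1,-3,3,-1,-1,1,1,-1,1,-1,1,-3,1,-1,1,1,1,1,-1,1,1,-3]]⟩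

/-- An element. -/
def m1 : H15.Mat := ⟨[[-3,3,-1,1,-1,1,1,-1,1,1,3,3,-1,1,-1,-1,-3,-1,1,-1,1,1,-1,1],[1,-1,-1,1,3,1,1,-1,-3,5,-1,-1,-1,1,-1,-1,1,-1,1,-1,1,1,-1,1],[1,-1,-1,-3,-1,1,1,-1,1,1,-1,3,-1,1,3,-1,1,-1,1,-1,-3,1,3,1],[1,-1,-1,1,-1,-3,1,-1,1,1,-1,3,3,1,-1,-1,1,-1,1,3,1,1,-1,-3],[-1,1,1,3,1,-1,-1,1,-1,-1,-3,1,-3,3,1,1,-1,-3,-1,1,-1,-1,1,-1],[-1,1,-3,-1,1,-1,3,1,-1,-1,1,-3,1,-1,1,1,-1,-3,3,1,-1,-1,1,-1],[1,3,-1,1,-1,-3,1,-1,1,1,-1,-1,-1,1,3,-1,1,3,1,-1,1,-3,-1,1],[3,1,-3,3,1,-1,-1,1,-1,-1,1,1,1,-1,1,1,-1,1,-1,1,-1,3,1,3],[-1,1,1,-1,1,-1,3,1,-1,-1,1,1,-3,-1,1,1,3,1,-1,1,3,3,1,-1],[1,-1,-1,-3,-1,-3,1,-1,1,1,-1,-1,-1,1,-1,3,-3,-1,-3,-1,1,1,-1,1],[-1,1,1,-1,1,-1,3,1,-1,-1,-3,1,1,-1,-3,-3,-1,1,-1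,1,-1,-1,1,3],[1,3,-1,-3,-1,1,-3,3,1,1,-1,-1,-1,1,-1,-1,1,-1,1,3,1,1,-1,1],[3,1,1,-1,1,-1,-1,-3,-1,-1,1,1,-3,-1,-3,1,-1,1,3,1,-1,-1,1,-1],[3,1,1,-1,1,-1,-1,1,-1,-1,1,1,1,-1,1,-3,-1,-3,-1,-3,3,-1,1,-1],[-1,1,1,-1,-3,-1,-1,1,-5,3,1,1,1,-1,1,1,-1,1,-1,1,-1,-1,1,-1],[-1,-3,1,-1,1,-1,-1,1,-1,-1,1,1,1,3,1,1,-1,1,3,1,3,-1,1,3],[-1,-3,-3,-1,1,-1,-1,1,-1,-1,1,1,-3,-1,1,-3,-1,1,-1,1,-1,-1,-3,-1],[-1,1,1,-1,1,-1,-1,-3,-1,-1,1,-3,1,3,1,-3,-1,1,-1,1,-1,3,1,-1],[-1,1,1,-1,1,-1,-1,1,-1,-1,-3,1,1,-1,1,1,-1,1,3,-3,-1,3,-3,-1],[-1,1,1,-1,1,-1,-1,-3,-1,-1,1,1,1,-1,1,1,3,-3,-1,1,-1,-1,-3,3],[3,1,1,-1,1,3,3,1,-1,-1,1,1,1,3,1,1,-1,1,-1,1,-1,-1,-3,-1],[-1,1,-3,-1,1,3,-1,-3,-1,-1,-3,1,1,-1,1,1,-1,1,-1,1,3,-1,1,-1],[1,-1,3,1,-1,1,1,-1,1,1,-1,-1,-1,-3,3,-1,-3,-1,1,3,1,1,-1,1],[-1,1,1,-1,5,-1,-1,1,3,3,1,1,1,-1,1,1,-1,1,-1,1,-1,-1,1,-1]],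
  [[-3,1,1,1,-1,-1,1,3,-1,1,-1,1,3,3,-1,-1,-1,-1,-1,-1,3,-1,1,-1],[3,-1,-1,-1,1,1,3,1,1,-1,1,3,1,1,1,-3,-3,1,1,1,1,1,-1,1],[-1,-1,-1,-1,1,-3,-1,-3,1,-1,1,-1,1,1,1,1,-3,1,1,1,1,-3,3,1],[1,1,-3,1,3,-1,1,3,-1,-3,-1,-3,-1,-1,-1,-1,-1,-1,-1,-1,-1,-1,1,-1],[-1,3,-1,-1,1,1,-1,1,1,-1,1,-1,1,1,-3,1,1,1,1,1,1,1,-1,5],[1,1,1,-3,-1,-1,-3,-1,-1,-3,-1,1,-1,-1,-1,-1,-1,-1,-1,-1,3,3,1,-1],[1,1,1,1,-1,3,1,-1,3,1,3,-3,-1,-1,-1,-1,-1,-1,-1,-1,3,-1,1,-1],[-1,-1,-1,-1,1,1,-1,1,1,-1,1,3,-3,1,1,1,1,-3,1,-3,1,-3,-1,1],[1,-3,1,1,-1,-1,1,-1,-1,1,-1,1,-1,-1,-5,-1,-1,-1,-1,-1,-1,-1,1,3],[1,5,1,1,-1,-1,1,-1,-1,1,-1,1,-1,-1,3,-1,-1,-1,-1,-1,-1,-1,1,3],[3,-1,-1,-1,-3,1,-1,1,1,-1,-3,-1,1,1,1,1,1,1,-3,1,1,-3,-1,1],[3,-1,3,3,1,-3,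-1,1,1,-1,1,-1,1,1,1,1,1,-3,1,1,1,1,-1,1],[-1,-1,-1,3,-3,1,-1,1,-3,-1,1,-1,-3,1,1,1,-3,1,1,1,1,1,-1,1],[1,1,1,1,3,-1,1,-1,-1,1,-1,1,-1,-1,-1,3,-1,3,-1,-1,3,-1,-3,-1],[-1,-1,3,-1,1,1,3,1,1,-1,-3,-1,-3,1,1,1,1,1,1,1,1,1,3,1],[-1,-1,-1,-1,1,1,-1,1,1,3,-3,-1,1,-3,1,1,-3,-3,1,1,1,1,-1,1],[-3,1,1,1,-1,-1,1,-1,3,-3,-1,1,-1,-1,-1,-1,-1,-1,-1,3,-1,-1,-3,-1],[-1,-1,-1,-1,-3,-3,3,1,1,-1,1,-1,1,-3,1,1,1,1,1,-3,1,1,-1,1],[1,1,1,1,-1,3,1,-1,-1,-3,-1,1,3,-1,-1,3,-1,-1,3,-1,-1,-1,1,-1],[-1,-1,-1,3,1,1,-1,1,1,-1,1,3,1,-3,1,1,1,1,-3,1,1,1,3,1],[1,1,-3,1,-1,-1,1,-1,3,1,-1,1,-1,3,-1,3,-1,-1,-1,-1,-1,3,1,-1],[1,1,1,1,-1,-1,-3,3,3,1,-1,1,-1,-1,-1,-1,-1,3,3,-1,-1,-1,1,-1],[-1,-1,3,-1,1,1,-1,1,1,-1,1,-1,1,1,1,1,-3,1,-3,-3,-3,1,-1,1],[1,1,1,-3,-1,-1,1,3,-1,1,3,1,-1,-1,-1,3,-1,-1,-1,3,-1,-1,1,-1]]⟩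

/-- An element. -/
def m2 : H15.Mat := ⟨[[0,-2,4,0,2,-2,0,0,2,-2,0,0,0,0,2,0,0,2,4,0,0,-2,0,0],[-2,0,2,2,0,0,2,-2,0,0,-2,2,-2,-2,0,2,2,0,-2,-2,-2,0,2,2],[0,2,0,0,-2,-2,0,4,-2,-2,0,0,0,0,2,0,4,2,0,0,0,2,0,0],[-4,2,0,0,-2,2,0,0,2,2,0,0,0,0,2,0,0,2,0,4,0,-2,0,0],[2,0,2,2,0,0,2,2,0,0,-2,2,-2,-2,0,-2,-2,0,-2,2,2,0,-2,-2],[0,-2,0,4,-2,2,0,0,2,-2,4,0,0,0,2,0,0,-2,0,0,0,2,0,0],[2,0,-2,2,0,0,2,2,0,0,-2,2,2,2,0,2,-2,0,2,2,-2,0,2,2],[2,0,-2,2,0,0,-2,-2,0,0,-2,-2,-2,-2,0,-2,2,0,2,2,2,0,2,2],[0,2,0,0,2,-2,0,0,2,2,0,0,0,0,2,0,0,-2,0,0,0,2,4,-4],[0,-2,0,0,2,2,0,0,-2,2,0,0,4,-4,2,0,0,2,0,0,0,2,0,0],[-2,0,-2,-2,0,0,2,2,0,0,2,2,-2,-2,0,-2,-2,0,2,-2,2,0,2,2],[0,2,0,0,2,2,0,0,-2,-2,0,0,0,0,2,-4,0,-2,0,0,-4,-2,0,0],[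0,2,0,0,-2,-2,0,0,2,-2,0,0,4,-4,-2,0,0,-2,0,0,0,-2,0,0],[0,-2,0,-4,-2,2,0,0,2,-2,-4,0,0,0,2,0,0,-2,0,0,0,2,0,0],[0,-2,0,0,-2,-2,-4,0,-2,2,0,4,0,0,2,0,0,-2,0,0,0,-2,0,0],[-4,-2,0,0,2,-2,0,0,-2,-2,0,0,0,0,-2,0,0,-2,0,4,0,2,0,0],[2,0,2,-2,0,0,2,-2,0,0,2,2,2,2,0,-2,2,0,-2,2,2,0,2,2],[0,2,4,0,-2,2,0,0,-2,2,0,0,0,0,-2,0,0,-2,4,0,0,2,0,0],[0,-2,0,0,2,2,0,4,2,2,0,0,0,0,-2,0,4,-2,0,0,0,-2,0,0],[0,-2,0,0,-2,-2,4,0,-2,2,0,-4,0,0,2,0,0,-2,0,0,0,-2,0,0],[-2,0,2,2,0,0,-2,2,0,0,-2,-2,2,2,0,-2,-2,0,-2,-2,2,0,2,2],[0,2,0,0,2,-2,0,0,2,2,0,0,0,0,2,0,0,-2,0,0,0,2,-4,4],[0,2,0,0,2,2,0,0,-2,-2,0,0,0,0,2,4,0,-2,0,0,4,-2,0,0],[-2,0,-2,2,0,0,2,-2,0,0,-2,2,2,2,0,-2,2,0,2,-2,2,0,-2,-2]],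
  [[0,-2,0,-4,2,0,2,2,0,0,-2,0,0,0,0,-4,2,0,0,0,-2,0,0,-2],[-2,0,2,2,0,-2,0,0,2,-2,0,2,2,-2,-2,-2,0,2,-2,-2,0,2,2,0],[4,2,0,0,2,0,-2,-2,0,0,-2,0,0,0,0,0,2,4,0,0,2,0,0,-2],[0,2,0,0,2,4,2,2,0,0,-2,0,0,-4,0,0,-2,0,0,0,2,0,0,2],[2,0,-2,-2,0,-2,0,0,2,2,0,2,-2,-2,-2,2,0,-2,2,-2,0,2,2,0],[-2,0,-2,2,0,2,0,0,-2,2,0,2,-2,2,-2,-2,0,2,2,-2,0,-2,2,0],[0,2,0,0,2,0,2,-2,0,0,2,0,0,0,-4,0,2,0,0,4,-2,0,0,2],[0,-2,4,0,2,0,2,-2,0,0,2,0,0,0,0,0,-2,0,4,0,2,0,0,-2],[2,0,-2,2,0,2,0,0,2,-2,0,-2,2,2,-2,-2,0,-2,2,-2,0,2,-2,0],[-2,0,-2,2,0,-2,0,0,2,2,0,-2,-2,-2,2,-2,0,2,2,2,0,2,-2,0],[0,-2,0,0,-2,4,-2,-2,0,0,2,0,0,-4,0,0,2,0,0,0,-2,0,0,-2],[0,2,0,0,2,0,2,-2,0,0,2,0,0,0,4,0,2,0,0,-4,-2,0,0,2],[0,-2,0,0,-2,0,2,-2,0,4,-2,0,4,0,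0,0,2,0,0,0,2,0,0,2],[0,-2,0,0,-2,0,2,-2,0,-4,-2,0,-4,0,0,0,2,0,0,0,2,0,0,2],[2,0,2,2,0,2,0,0,2,2,0,2,-2,2,2,-2,0,-2,-2,2,0,2,2,0],[0,2,0,0,-2,0,2,-2,0,0,-2,-4,0,0,0,0,-2,0,0,0,-2,0,4,-2],[0,2,4,0,-2,0,-2,2,0,0,-2,0,0,0,0,0,2,0,4,0,-2,0,0,2],[2,0,2,2,0,-2,0,0,-2,2,0,-2,-2,-2,-2,-2,0,-2,-2,-2,0,-2,-2,0],[4,-2,0,0,-2,0,2,2,0,0,2,0,0,0,0,0,-2,4,0,0,-2,0,0,2],[0,-2,0,4,2,0,2,2,0,0,-2,0,0,0,0,4,2,0,0,0,-2,0,0,-2],[0,-2,0,0,2,0,-2,2,0,0,2,-4,0,0,0,0,2,0,0,0,2,0,4,2],[-2,0,2,-2,0,2,0,0,2,2,0,-2,-2,2,-2,2,0,2,-2,-2,0,2,-2,0],[0,2,0,0,-2,0,2,2,4,0,2,0,0,0,0,0,2,0,0,0,2,-4,0,-2],[0,2,0,0,-2,0,2,2,-4,0,2,0,0,0,0,0,2,0,0,0,2,4,0,-2]]⟩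

/-- An element. -/
def m3 : H15.Mat := ⟨[[1,1,3,-1,1,-1,3,3,-1,-1,-1,-1,1,-1,-1,1,1,-1,-3,3,1,-1,-1,-1],[-1,3,-3,1,-1,-3,1,1,1,1,1,1,-1,1,1,3,3,1,-1,1,-1,1,1,1],[-1,-1,1,-3,-1,1,1,-3,1,-3,1,1,-1,1,1,-1,3,1,-1,1,-1,-3,1,1],[-1,-1,-3,-3,-1,1,1,1,1,1,1,1,-1,-3,1,-1,-1,1,-1,1,3,1,1,-3],[-1,-1,1,1,-1,1,1,1,-3,1,1,1,-1,1,1,-1,3,-3,3,1,3,1,1,1],[-3,1,-1,3,1,3,-1,-1,3,-1,-1,-1,1,-1,-1,1,1,-1,1,3,1,-1,-1,-1],[3,-1,-3,1,-1,1,1,1,1,-3,1,1,-1,1,1,-1,-1,-3,-1,1,-1,1,-3,1],[3,-1,1,1,-1,1,1,-3,1,1,1,-3,-1,1,1,3,-1,1,-1,1,3,1,1,1],[-1,-1,1,1,3,1,1,1,1,1,-3,1,-1,1,5,-1,-1,1,-1,1,-1,1,1,1],[-1,-1,1,1,-1,1,1,1,1,1,1,1,-1,-3,1,3,-1,-3,-1,-3,-1,-3,1,1],[-1,-1,1,1,3,1,1,1,1,1,5,1,-1,1,-3,-1,-1,1,-1,1,-1,1,1,1],[-1,-1,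1,1,-1,-3,-3,1,1,1,1,1,-1,1,1,-1,-1,1,-1,1,3,-3,-3,1],[1,1,-1,3,1,-1,-1,-1,-1,-1,-1,-1,-3,-1,-1,-3,1,-1,-3,-1,1,-1,3,-1],[1,1,3,-1,1,-1,-1,-1,3,-1,-1,3,-3,-1,-1,1,1,-1,1,-1,1,3,-1,-1],[-1,-1,1,1,-1,-3,1,-3,1,1,1,1,3,1,1,-1,-1,-3,-1,1,-1,1,1,-3],[-1,3,1,-3,-1,1,-3,1,1,1,1,-3,-1,1,1,-1,-1,-3,-1,1,-1,1,1,1],[1,-3,-1,-1,1,-1,-1,3,3,-1,-1,-1,1,3,-1,1,1,-1,1,-1,1,-1,3,-1],[-1,-1,1,1,-1,1,1,1,1,1,1,-3,-1,1,1,-1,3,1,-1,-3,-1,1,-3,-3],[-1,3,1,1,-1,1,1,1,1,-3,1,1,3,1,1,-1,-1,1,-1,-3,3,1,1,1],[3,-1,1,1,-1,1,-3,1,1,1,1,1,3,-3,1,-1,3,1,-1,1,-1,1,1,1],[1,1,-1,-1,1,3,-1,-1,-1,3,-1,3,1,3,-1,1,1,-1,-3,-1,1,-1,-1,-1],[1,1,-1,-1,1,-1,3,-1,3,3,-1,-1,1,-1,-1,-3,1,-1,1,-1,1,-1,-1,3],[-3,-3,-1,-1,1,-1,-1,-1,-1,-1,-1,-1,1,-1,-1,1,1,-1,-3,-1,1,3,-1,3],[-1,-1,1,1,-5,1,1,1,1,1,-3,1,-1,1,-3,-1,-1,1,-1,1,-1,1,1,1]],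
  [[1,-1,-1,-1,-1,-3,3,3,-1,-1,-1,-1,1,1,-1,-1,1,-1,-1,3,1,1,-3,-1],[1,3,-1,-1,-1,1,-1,-1,-1,-1,-1,-1,1,1,-1,3,-3,-1,3,-1,1,1,-3,-1],[3,-3,1,-3,1,-1,-3,1,1,1,1,1,-1,3,1,1,-1,1,1,1,-1,-1,-1,1],[-1,1,-3,-3,1,3,1,1,1,1,1,1,3,-1,1,-3,-1,1,1,1,-1,-1,-1,1],[1,-1,-1,-1,-1,1,-1,-1,3,-1,3,-1,1,1,-1,-1,1,-1,-1,-1,1,1,1,-5],[-1,-3,1,1,1,3,1,1,1,1,1,-3,-1,-1,-3,1,-1,1,1,1,3,-1,-1,1],[3,1,1,1,1,-1,1,1,1,1,1,-3,-1,-1,1,-3,-1,1,1,-3,-1,3,-1,1],[3,1,-3,1,1,-1,1,-3,1,1,1,1,-1,-1,-3,1,3,1,1,1,-1,-1,-1,1],[-1,1,1,1,-3,3,1,1,1,1,1,1,-1,3,1,1,3,1,1,1,-1,3,-1,1],[-1,1,-3,1,1,-1,-3,1,1,1,1,1,-1,-1,1,1,-1,1,-3,1,3,3,-1,1],[-1,1,1,1,1,-1,1,1,-3,1,5,1,-1,-1,1,1,-1,1,1,1,-1,-1,-1,-3],[-1,1,1,1,1,-1,1,-3,1,1,1,1,-1,3,1,-3,-1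,-3,1,1,3,-1,-1,1],[1,-1,-1,-1,-1,1,-1,-1,-1,-1,-1,-1,-3,-3,3,-1,1,-1,3,3,1,1,1,-1],[-1,1,1,-3,1,-1,1,1,1,-3,1,1,-1,-1,1,1,3,1,1,-3,3,-1,-1,1],[-1,1,1,1,1,-1,1,1,5,1,-3,1,-1,-1,1,1,-1,1,1,1,-1,-1,-1,-3],[1,3,-1,-1,-1,1,-1,3,-1,3,-1,-1,-3,1,-1,-1,1,-1,-1,-1,1,-3,1,-1],[1,3,3,-1,3,1,-1,-1,-1,-1,-1,-1,1,1,-1,-1,1,3,-1,3,1,1,1,-1],[-1,1,1,1,-3,-1,-3,1,1,-3,1,1,-1,-1,-3,-3,-1,1,1,1,-1,-1,-1,1],[-3,-1,-1,-1,3,1,-1,-1,-1,-1,-1,-1,-3,1,-1,-1,1,-1,-1,-1,-3,1,-3,-1],[3,1,1,1,1,3,1,1,1,-3,1,1,-1,-1,1,1,-1,-3,-3,1,-1,-1,-1,1],[1,-1,-1,3,3,1,-1,3,-1,-1,-1,3,1,1,-1,-1,1,-1,3,-1,1,1,1,-1],[-1,1,-3,1,1,-1,1,1,1,-3,1,-3,-1,3,1,1,-1,1,1,1,-1,-1,3,1],[-1,1,1,1,1,-1,-3,1,1,1,1,-3,3,-1,1,1,3,-3,1,1,-1,-1,-1,1],[-1,1,1,-3,1,-1,1,1,1,1,1,1,-1,-1,-3,1,-1,-3,1,1,-1,3,3,1]]⟩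

/-- The presentation. -/
def pc : Pc := ⟨5, 4, 2, [[],[],[],[],[2],[],[],[],[3],[3,3,3,3],[],[],[],[],[],[]], [(1,0),(2,0)]⟩

/-- A part. -/
def combo0 : List (ℤ × List (ℕ × ℤ)) := [
  (0, [(0,-1),(1,-1),(2,1),(3,-2),(4,-1),(5,-2)]),
  (0, [(0,2),(1,-2)]),
  (0, [(0,-2),(1,-2),(4,-1)]),
  (0, [(0,2),(1,2),(2,-1),(4,1)]),
  (0, [(3,-1)]),
  (0, [(0,-1),(1,-1)])]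

/-- A part. -/
def row0 : List (List ℕ × List ℕ) := [
  ([], [9,9,9,9,9,9,9,9,9,9,10,13,13,13,13,13,13,13,13,13,13,14,14,14,14,14,14,14,14,14,14,14,14,14,14,14,14,14,14,14,14,14,14,14,14,14,14,14,14,14,14,15,15,15,15,15,15,15,15]),
  ([10,12,12,12,12,12,14,14,14,14,14,14,14,14,14,14,15,15], []),
  ([12,12,12,12], [13]),
  ([], [14]),
  ([12,12,12,12,14,14,14,14,14,14,14,14,14,14,15,15], []),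
  ([9,9,12,12,12,12,12,14,15,15], [13,13,13,13,13,13,13,13])]

/-- A part. -/
def eqn0 : List Eqn := [
  .assoc [1,1,1,1] [1,0],
  .assoc [1] [0,0,0,0,0],
  .assoc [2] [1,0],
  .assoc [3] [1,0],
  .fus 0 [[0,2,2,2,3,3],[0,0,0,0,2,2,3,3]] [[2,2,2],[2,2,3]] [1,0],
  .fus 1 [[0,0,1,1,2],[0,0,0,0,1,1,1,1,2,2,2,2,3,3,3]] [[0,0,0,1,1,1,2,2,2,2,3],[0,1,2,2,2,3,3,3,3]] [1,0]]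

/-- The live constants. -/
def liveL : List ℕ := [9,10,12,13,14,15]

/-- The rows by their parts. -/
def rowsS : List (List ℕ × List ℕ) := row0

/-- The certificate. -/
def cert : Cert where
  fuel := 137
  k := 0
  e := 1
  eqns := eqn0
  rows := rowsS.map (rowOf liveL)
  live := liveL
  free := [0,5]
  top := 9
  combos := combo0
  topCombo := [(0,-1),(1,-1),(2,1),(3,-2),(4,-1),(5,-2)]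

/-- The elements. -/
def dat : MatData := ⟨[(m0, [12581389,783776,14267189,4205438,3972274,4033053,3654238,4919865,12050854,12728601,4403682,4298903,1778449,16718165,9072665,16173232,16566255,16034059,12268305,1781825,15499378,1445941,10064147,5984513]), (m1, [7087805,13570283,11356130,16607081,5415929,10813722,12229143,7148265,12339992,11989384,9242904,7159896,15450361,15024249,1379479,13979525,13979521,7816967,4025223,1404679,9502745,4586275,7246612,3382423]), (m2, [9875588,6727749,9415038,8459239,5608532,8608685,9960153,16577165,14775253,12714756,15411166,4020343,477515,7257441,631305,1398695,7379136,5577327,2825209,442889,15117302,14441307,383099,1225522]), (m3, [4175120,14696800,8083751,827648,7926867,7125615,8687888,8124625,14701897,4068098,4178688,14905989,1377304,4500756,1796957,15414199,12924306,406525,9935359,15918147,6708784,15521616,8723436,10366957])],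 [(0, 1, [4060424,12906526,15184661,13798859,8365707,13243904,7418377,11850904,12797419,13238608,9263939,1196050,3744144,13652290,11792362,12185164,6315385,96637,12702525,12898450,8936285,16458392,10893284,495204]), (4, 4, [6931716,881538,415378,2311450,53458,1731564,7936537,1220657,1643658,11124998,8072574,8493919,1020564,14003035,4215279,1784952,10518525,2592492,4651817,6080646,5557105,7641881,12134930,1086568]), (5, 5, [918657,9380429,14899623,16770137,3335803,14678832,546048,13544580,14701897,13755399,4164400,11363439,3443493,14291320,14649641,15702325,9032550,11081778,3714734,3449125,13327661,11547040,3940649,8092684]), (1, 0, [4464607,8451552,15440181,4071729,7838055,4844449,4858671,14821075,4917285,3547497,12830981,14275349,16193589,1076151,9034413,16018297,6791066,772797,6995832,16669618,6789050,405468,1174979,6706503]),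 (6, 7, [16440958,6498944,7693743,468687,8182323,15258650,546826,2044875,12028193,16175304,16247405,14410593,12450677,1302265,12450773,9009893,6337945,6943413,11098357,4350654,1190598,23540,10349169,4411403]), (0, 8, [13925329,11552032,16663392,10226650,9576752,10225744,8398080,6159241,9461026,2927342,10954711,8312264,88821,12710649,7848657,7757374,14810222,1999058,6419189,131376,13240144,91869,6437698,16025644]), (9, 9, [13863546,14899669,16234937,16576510,8358165,3255617,131104,3976924,3011861,1351098,6602866,10633316,3986484,87791,8480495,9030855,10538987,4100320,9892004,8451216,8644263,2461101,5191525,13298442]), (10, 10, [16049797,6888777,5049515,5972501,3982384,11846032,998817,10524948,11854128,2508624,6004197,9733232,5852349,5875373,11456380,14499493,14359514,3466384,3079998,14165058,15170693,10802310,11589886,11983416]),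 (8, 0, [9197141,6686131,9696483,10072515,644231,13234305,1430730,15995590,8405238,16000385,1152171,10306992,9276425,270066,16399579,6831803,11652082,888784,7568515,371884,4447619,7654923,1411990,9024218]), (11, 12, [4213647,5508219,1065266,652249,160106,2251014,16655113,10480449,1811891,9039890,3213823,1394950,2554174,13652250,3350734,13359490,1377908,4071795,4247958,12325699,3342509,8517894,7456786,15673756])], [0,1,8,13], [2,3],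
  [(1538188, [61630,945786,1037918,1538188,2202099,2266283,2659185,2856757,4562229,4571009,5335406,7396288,8217578,8845527,9121871,11976595,12842844,13321208,13826442,14475186,14725976,15564531,16508196,16526549,16591671]), (1538188, [61630,945786,1037918,1538188,16526549]), (1, [1,4213647,5147309,5761573,15695063]), (1, [1])]⟩

end Cfsg.Agent.H3.Co1Mult.P5
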