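import Cfsg.Agent.H3.Co1Mult.Engine
import Cfsg.Agent.H3.Co1Mult.Combo

/-!
The first Conway group: the certificate at 7.
-/

set_option autoImplicit false
set_option maxRecDepth 100000

namespace Cfsg.Agent.H3.Co1Mult.P7

open Cfsg.Agent Cfsg.Agent.H13.SylMult

/-- An element. -/
def m0 : H15.Mat := ⟨[[2,2,-2,0,0,0,0,0,2,0,4,0,2,2,0,-2,-2,-2,2,0,0,-2,2,0],[0,4,0,2,2,-2,2,2,0,-2,-2,-2,0,0,-2,0,0,0,0,2,-2,0,0,-2],[0,0,4,-2,2,2,-2,2,0,-2,2,-2,0,0,-2,0,0,0,0,-2,2,0,0,-2],[2,-2,2,0,0,0,0,0,-2,0,0,0,-2,-2,0,-2,2,-2,2,0,-4,-2,2,0],[2,2,2,0,0,0,0,-4,-2,0,0,0,-2,2,0,-2,-2,2,-2,0,0,-2,-2,0],[-2,-2,2,0,0,0,4,0,2,0,0,0,2,2,0,-2,2,2,-2,0,0,-2,2,0],[-2,2,2,0,-4,0,0,0,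-2,0,0,0,2,-2,0,2,-2,-2,-2,0,0,-2,2,0],[0,0,0,-2,-2,-2,-2,2,0,-2,2,2,0,0,2,0,0,4,0,2,-2,0,0,-2],[0,0,0,2,-2,-2,2,2,0,2,2,-2,-4,0,2,0,0,0,0,-2,2,0,0,-2],[2,-2,-2,0,0,0,0,0,-2,0,0,-4,2,-2,0,-2,-2,2,-2,0,0,2,2,0],[2,2,2,0,0,0,0,0,2,0,0,0,2,-2,4,-2,2,-2,-2,0,0,2,-2,0],[0,0,0,2,2,-2,-2,2,0,2,2,2,0,0,-2,0,0,0,-4,-2,-2,0,0,2],[0,0,0,2,-2,2,2,-2,0,-2,2,2,0,0,-2,0,0,0,0,-2,-2,4,0,-2],[2,2,2,0,0,0,0,0,-2,4,0,0,2,2,0,2,2,2,2,0,0,2,2,0],[2,-2,2,4,0,0,0,0,2,0,0,0,2,-2,0,2,-2,2,2,0,0,-2,-2,0],[0,0,0,-2,2,-2,2,-2,0,2,2,2,0,-4,-2,0,0,0,0,2,2,0,0,-2],[0,0,0,2,-2,-2,-2,-2,0,-2,2,-2,0,0,-2,0,4,0,0,2,2,0,0,2],[2,2,-2,0,0,4,0,0,2,0,0,0,-2,-2,0,2,2,2,-2,0,0,-2,2,0],[0,0,0,2,-2,2,-2,2,0,2,-2,2,0,0,-2,-4,0,0,0,2,2,0,0,-2],[0,0,0,2,2,2,2,2,-4,-2,2,2,0,0,2,0,0,0,0,2,2,0,0,2],[-4,0,0,2,2,2,-2,-2,0,2,2,-2,0,0,2,0,0,0,0,2,-2,0,0,-2],[2,-2,-2,0,0,0,0,0,-2,0,0,0,2,2,0,2,2,-2,-2,0,0,-2,-2,-4],[0,0,0,2,2,-2,-2,-2,0,-2,-2,2,0,0,2,0,0,0,0,-2,2,0,4,-2],[-2,2,-2,0,0,0,0,0,-2,0,0,0,2,-2,0,-2,2,2,2,-4,0,-2,-2,0]],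
  [[2,0,0,2,2,-2,-2,0,0,2,2,0,0,2,2,0,0,2,0,0,-4,2,0,-2],[2,4,0,-2,2,-2,2,0,0,-2,2,0,0,2,-2,0,0,2,0,0,0,-2,0,2],[-2,0,4,2,2,2,2,0,0,-2,2,0,0,2,2,0,0,-2,0,0,0,-2,0,-2],[0,2,-2,0,0,0,0,-2,2,0,0,2,2,0,4,-2,2,0,2,2,2,0,2,0],[0,2,2,0,0,0,-4,-2,-2,0,0,2,-2,0,0,2,-2,0,-2,2,2,0,2,0],[0,-2,2,0,0,0,0,-2,-2,0,0,-2,2,0,0,-2,-2,4,2,2,2,0,-2,0],[0,2,-2,0,0,4,0,-2,2,0,0,-2,2,0,0,2,-2,0,-2,2,-2,0,-2,0],[0,2,2,0,-4,0,0,2,2,0,0,2,-2,0,0,-2,-2,0,2,2,-2,0,-2,0],[2,0,0,-2,-2,2,-2,0,0,-2,2,0,0,-2,2,0,0,2,0,-4,0,-2,0,-2],[0,-2,-2,0,0,0,0,-2,2,0,0,2,-2,4,0,2,-2,0,2,-2,2,0,-2,0],[4,-2,2,0,0,0,0,2,2,0,0,2,2,0,0,2,2,0,-2,2,2,0,-2,0],[0,-2,-2,0,0,0,0,2,-2,-4,0,2,2,0,0,2,-2,0,2,2,-2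,0,2,0],[2,0,0,-2,-2,2,2,0,-4,2,2,0,0,2,2,0,0,-2,0,0,0,2,0,2],[2,0,0,-2,2,2,-2,0,0,-2,-2,0,0,2,-2,-4,0,-2,0,0,0,2,0,-2],[0,-2,-2,0,0,0,0,2,2,0,4,-2,-2,0,0,-2,-2,0,-2,2,2,0,2,0],[-2,0,0,-2,-2,-2,2,0,0,-2,-2,0,0,2,2,0,0,2,-4,0,0,2,0,-2],[-2,0,0,2,-2,2,-2,0,0,-2,2,0,0,2,-2,0,4,2,0,0,0,2,0,2],[-2,0,0,-2,2,2,-2,4,0,2,-2,0,0,2,2,0,0,2,0,0,0,-2,0,2],[2,0,0,2,-2,-2,-2,0,0,-2,-2,-4,0,2,2,0,0,-2,0,0,0,-2,0,2],[0,2,-2,0,0,0,0,2,-2,0,0,-2,-2,0,0,2,2,0,2,2,2,0,-2,-4],[0,-2,2,-4,0,0,0,-2,2,0,0,-2,-2,0,0,2,2,0,2,2,-2,0,2,0],[-2,0,0,-2,-2,-2,-2,0,0,2,2,0,4,2,-2,0,0,-2,0,0,0,-2,0,-2],[2,0,0,2,-2,2,2,0,0,2,-2,0,0,2,-2,0,0,2,0,0,0,-2,4,-2],[0,-2,-2,0,0,0,0,-2,-2,0,0,2,-2,0,0,-2,2,0,-2,2,-2,-4,-2,0]]⟩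

/-- An element. -/
def m1 : H15.Mat := ⟨[[-2,0,2,2,0,2,0,2,0,2,0,-2,0,0,0,-2,-2,0,2,-2,4,0,2,0],[-2,-4,2,-2,0,2,0,2,0,-2,0,-2,0,0,0,2,-2,0,-2,2,0,0,-2,0],[0,-2,0,0,-2,0,-2,0,2,0,2,0,-2,-2,-2,0,4,-2,0,0,2,2,0,2],[2,0,2,-2,0,2,0,2,0,-2,0,2,0,0,0,2,2,0,2,-2,0,-4,2,0],[-2,0,2,-2,0,-2,4,-2,0,-2,0,-2,0,0,0,-2,2,0,2,-2,0,0,-2,0],[-2,0,-2,2,0,-2,0,2,0,-2,0,-2,4,0,0,2,2,0,2,2,0,0,2,0],[0,-2,0,0,-2,0,2,0,-2,0,-2,4,2,-2,-2,0,0,2,0,0,2,2,0,-2],[0,-2,-4,0,2,0,2,0,2,0,2,0,-2,-2,2,0,0,2,0,0,2,-2,0,-2],[0,-2,0,0,2,0,-2,0,-2,0,-2,0,-2,-2,2,0,0,2,4,0,-2,2,0,2],[2,0,-2,-2,0,2,0,-2,0,-2,0,-2,0,0,-4,-2,-2,0,2,2,0,0,2,0],[0,-2,0,0,-2,0,-2,0,2,0,-2,0,2,-2,2,-4,0,-2,0,0,-2,-2,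0,-2],[2,0,2,2,0,-2,0,-2,0,-2,0,-2,0,-4,0,2,-2,0,-2,-2,0,0,2,0],[0,-2,0,0,-2,0,2,0,-2,0,2,0,-2,2,2,0,0,-2,0,0,-2,2,4,-2],[2,0,2,2,0,2,0,-2,0,2,0,-2,0,0,0,2,2,0,2,2,0,0,-2,-4],[0,-2,0,4,-2,0,2,0,2,0,-2,0,-2,2,-2,0,0,2,0,0,-2,-2,0,2],[0,-2,0,0,2,0,2,0,-2,4,2,0,2,-2,-2,0,0,-2,0,0,-2,-2,0,2],[2,0,2,2,0,-2,0,2,0,-2,4,2,0,0,0,-2,-2,0,2,2,0,0,-2,0],[0,2,0,0,-2,0,2,0,-2,0,-2,0,-2,-2,2,0,0,-2,0,4,2,-2,0,2],[2,0,2,-2,0,-2,0,2,0,2,0,-2,0,0,0,-2,2,4,-2,2,0,0,2,0],[0,2,0,0,-2,4,2,0,2,0,2,0,2,-2,2,0,0,2,0,0,-2,2,0,2],[2,0,-2,2,0,2,0,2,-4,-2,0,-2,0,0,0,-2,2,0,-2,-2,0,0,-2,0],[4,-2,0,0,2,0,2,0,2,0,-2,0,2,2,2,0,0,-2,0,0,2,2,0,2],[-2,0,2,2,4,2,0,-2,0,-2,0,2,0,0,0,-2,2,0,-2,2,0,0,2,0],[0,2,0,0,2,0,2,4,2,0,-2,0,-2,-2,-2,0,0,-2,0,0,-2,2,0,-2]],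
  [[-2,-2,0,2,-2,-2,0,0,0,2,0,2,0,2,0,0,2,0,2,0,2,4,-2,0],[0,-4,-2,0,0,0,-2,-2,-2,0,-2,0,-2,0,-2,-2,0,2,0,2,0,-2,0,2],[2,2,0,2,2,-2,0,-4,0,-2,0,2,0,2,0,0,2,0,2,0,-2,0,2,0],[2,-2,0,-2,-2,2,0,0,0,-2,0,2,0,2,4,0,2,0,-2,0,2,0,2,0],[0,0,-2,0,0,0,-2,2,2,0,-2,0,-2,0,-2,2,0,-2,0,-2,0,2,4,2],[2,2,0,2,-2,-2,0,0,0,2,0,-2,0,2,0,0,-2,0,-2,4,2,0,2,0],[0,0,-2,0,4,0,2,2,-2,0,-2,0,2,0,2,2,0,2,0,2,0,2,0,2],[2,2,0,2,-2,2,0,0,0,-2,0,-2,0,-2,0,0,2,0,2,0,2,0,-2,4],[0,0,2,0,0,0,-2,2,-2,0,2,0,-2,0,2,-2,0,-2,0,2,-4,2,0,2],[2,-2,0,-2,-2,-2,0,0,0,-2,0,-2,0,2,0,4,-2,0,2,0,-2,0,-2,0],[0,0,2,0,0,0,-2,2,-2,0,-2,0,2,0,-2,2,4,-2,0,2,0,-2,0,-2],[-2,-2,0,2,-2,-2,4,0,0,-2,0,-2,0,-2,0,0,2,0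,-2,0,-2,0,2,0],[0,0,-2,0,0,4,2,-2,-2,0,2,0,-2,0,-2,2,0,-2,0,2,0,2,0,-2],[0,0,-2,0,0,0,-2,-2,-2,0,-2,-4,2,0,2,-2,0,-2,0,-2,0,2,0,-2],[0,0,-2,0,0,0,-2,2,2,-4,2,0,2,0,-2,-2,0,2,0,2,0,2,0,-2],[-2,2,0,2,-2,2,0,0,0,-2,-4,2,0,2,0,0,-2,0,-2,0,-2,0,-2,0],[-2,-2,4,2,2,2,0,0,0,-2,0,-2,0,2,0,0,-2,0,2,0,2,0,2,0],[0,0,-2,0,0,0,2,2,2,0,-2,0,-2,0,2,-2,0,-2,4,2,0,-2,0,-2],[2,-2,0,2,2,2,0,0,4,2,0,-2,0,2,0,0,2,0,-2,0,-2,0,-2,0],[-2,2,0,-2,-2,2,0,0,0,2,0,-2,0,2,0,0,2,4,2,0,-2,0,2,0],[4,0,2,0,0,0,2,2,-2,0,-2,0,-2,0,-2,-2,0,2,0,-2,0,2,0,-2],[0,0,2,-4,0,0,2,-2,2,0,-2,0,2,0,-2,-2,0,-2,0,2,0,2,0,2],[2,-2,0,2,-2,2,0,0,0,2,0,2,4,-2,0,0,-2,0,2,0,-2,0,2,0],[0,0,2,0,0,0,-2,-2,2,0,-2,0,-2,-4,2,2,0,2,0,2,0,2,0,-2]]⟩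

/-- An element. -/
def m2 : H15.Mat := ⟨[[-2,2,2,0,2,0,0,4,2,0,-2,0,-2,0,-2,0,-2,0,-2,-2,0,0,2,0],[2,2,2,0,2,0,0,0,2,0,2,0,2,0,2,0,-2,0,-2,2,0,4,-2,0],[-2,-2,2,0,-2,0,0,0,-2,0,2,0,-2,-4,2,0,-2,0,-2,-2,0,0,-2,0],[0,4,0,2,0,2,2,-2,0,2,0,2,0,-2,0,2,0,-2,0,0,-2,-2,0,2],[0,0,0,-2,0,2,2,2,0,-2,4,-2,0,2,0,2,0,-2,0,0,2,-2,0,2],[-2,2,-2,0,-2,0,0,0,2,0,-2,0,2,0,2,0,2,0,-2,-2,4,0,-2,0],[2,-2,2,0,-2,0,0,0,2,0,-2,0,-2,0,2,0,2,-4,-2,2,0,0,2,0],[0,0,0,-2,0,-2,2,-2,0,2,0,2,0,2,0,-2,-4,-2,0,0,2,-2,0,-2],[0,0,0,-2,0,-2,2,-2,0,2,0,-2,0,-2,0,2,0,2,0,0,2,2,4,2],[0,0,0,2,4,-2,-2,-2,0,-2,0,-2,0,-2,0,-2,0,-2,0,0,2,-2,0,2],[2,-2,-2,0,2,0,0,0,2,0,-2,0,-2,0,2,4,-2,0,2,-2,0,0,-2,0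],[2,2,-2,0,2,0,0,0,-2,0,2,0,-2,0,2,0,2,0,-2,-2,0,0,2,-4],[4,0,0,-2,0,2,-2,2,0,2,0,2,0,-2,0,-2,0,2,0,0,2,-2,0,2],[0,0,0,2,0,-2,2,2,0,-2,0,2,0,-2,0,2,0,2,0,4,2,-2,0,-2],[-2,-2,-2,0,2,4,0,0,-2,0,-2,0,2,0,2,0,-2,0,-2,2,0,0,2,0],[-2,-2,2,0,2,0,0,0,2,0,2,4,2,0,2,0,2,0,2,-2,0,0,2,0],[0,0,-4,-2,0,-2,2,2,0,-2,0,2,0,-2,0,-2,0,-2,0,0,-2,2,0,2],[2,-2,2,0,2,0,4,0,-2,0,-2,0,2,0,-2,0,2,0,-2,-2,0,0,-2,0],[0,0,0,-2,0,-2,-2,-2,0,-2,0,2,0,2,0,2,0,2,-4,0,-2,-2,0,2],[0,0,0,-2,0,-2,-2,2,0,2,0,-2,4,-2,0,2,0,-2,0,0,-2,-2,0,-2],[-2,-2,-2,0,2,0,0,0,2,4,2,0,-2,0,-2,0,2,0,-2,2,0,0,-2,0],[0,0,0,2,0,-2,2,2,0,2,0,-2,0,2,4,-2,0,2,0,0,-2,-2,0,2],[-2,2,2,-4,2,0,0,0,-2,0,-2,0,-2,0,2,0,2,0,2,2,0,0,-2,0],[0,0,0,2,0,-2,-2,2,-4,2,0,2,0,2,0,2,0,-2,0,0,2,2,0,2]],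
  [[-2,2,-2,0,0,-2,2,0,0,0,2,2,4,0,-2,-2,0,2,0,0,-2,0,-2,0],[2,2,-2,4,0,2,-2,0,0,0,-2,2,0,0,-2,-2,0,-2,0,0,-2,0,2,0],[2,2,2,0,0,-2,2,0,0,0,-2,-2,0,0,-2,2,-4,2,0,0,-2,0,2,0],[0,0,0,2,-2,0,0,-2,-2,2,0,0,-2,2,0,0,-2,0,-2,-2,0,2,-4,2],[2,2,-2,0,0,-2,-2,0,0,4,2,2,0,0,2,2,0,2,0,0,2,0,2,0],[0,0,0,2,2,0,0,-2,-2,-2,0,0,2,-2,4,0,-2,0,-2,-2,0,-2,0,-2],[0,0,0,2,2,0,0,2,2,-2,0,0,-2,2,0,0,2,4,-2,-2,0,2,0,-2],[4,0,0,-2,2,0,0,-2,-2,-2,0,0,2,2,0,0,2,0,-2,2,0,2,0,2],[2,2,-2,0,0,2,2,0,0,0,2,-2,0,0,-2,2,0,-2,0,0,2,0,-2,-4],[0,0,0,2,-2,0,0,2,2,-2,0,0,2,-2,0,0,-2,0,-2,2,4,2,0,2],[-2,2,2,0,4,-2,-2,0,0,0,-2,2,0,0,-2,2,0,-2,0,0,2,0,-2,0],[0,0,0,2,-2,0,0,2,-2,-2,0,0,2,2,0,4,2,0,2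,-2,0,-2,0,2],[-2,2,-2,0,0,2,-2,0,0,0,-2,-2,0,0,2,2,0,2,0,4,-2,0,-2,0],[0,0,-4,-2,2,0,0,2,-2,-2,0,0,-2,-2,0,0,-2,0,2,-2,0,2,0,2],[-2,2,2,0,0,2,2,0,0,0,2,2,0,0,2,2,0,-2,0,0,-2,4,2,0],[0,0,0,2,2,0,0,-2,2,-2,4,0,-2,2,0,0,-2,0,2,2,0,-2,0,2],[-2,-2,-2,0,0,2,2,-4,0,0,-2,2,0,0,-2,2,0,2,0,0,2,0,2,0],[0,0,0,-2,-2,0,-4,-2,2,-2,0,0,2,2,0,0,-2,0,2,-2,0,2,0,-2],[-2,-2,-2,0,0,-2,-2,0,0,0,2,-2,0,0,-2,2,0,-2,-4,0,-2,0,2,0],[-2,2,-2,0,0,-2,2,0,0,0,-2,-2,0,4,2,-2,0,-2,0,0,2,0,2,0],[0,0,0,-2,2,4,0,2,2,2,0,0,2,2,0,0,-2,0,-2,-2,0,-2,0,2],[0,4,0,-2,-2,0,0,-2,2,-2,0,0,-2,-2,0,0,2,0,-2,-2,0,-2,0,2],[2,-2,-2,0,0,-2,2,0,4,0,-2,2,0,0,2,2,0,-2,0,0,-2,0,-2,0],[0,0,0,2,2,0,0,-2,2,2,0,-4,2,-2,0,0,2,0,2,-2,0,2,0,2]]⟩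

/-- The presentation. -/
def pc : Pc := ⟨7, 2, 2, [[],[],[],[]], []⟩

/-- A part. -/
def combo0 : List (ℤ × List (ℕ × ℤ)) := [
  (0, [(0,2)])]

/-- A part. -/
def row0 : List (List ℕ × List ℕ) := [
  ([], [2,2,2,2,2,2,2,2,2,2,2,2,2,2,2,2,2,2,2,2,2,2,2,2])]

/-- A part. -/
def eqn0 : List Eqn := [
  .fus 0 [[0,0,0,0,0,0,1,1],[0,0,0,0,0,0,1,1,1,1,1]] [[1,1],[0,0,0,1,1,1,1,1]] [1,0]]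

/-- The live constants. -/
def liveL : List ℕ := [2]

/-- The rows by their parts. -/
def rowsS : List (List ℕ × List ℕ) := row0

/-- The certificate. -/
def cert : Cert where
  fuel := 33
  k := 0
  e := 1
  eqns := eqn0
  rows := rowsS.map (rowOf liveL)
  live := liveL
  free := [0,3]
  top := 2
  combos := combo0
  topCombo := [(0,2)]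

/-- The elements. -/
def dat : MatData := ⟨[(m0, [9182194,3130281,8662591,10192598,6321578,6185512,15870216,14146600,6444808,2538447,14689416,7041509,9903211,13386498,6823944,9576019,15266827,2646054,1383083,1379835,3942853,9810180,6527003,6614776]), (m1, [2952081,12776558,15247619,855962,12200785,11838262,332867,5937495,5658365,1904022,8859444,12992418,10408128,10587137,7534024,15053520,10523297,5174466,4402345,6492642,13676421,3017262,10394095,13174098]), (m2, [12427608,1288344,804501,4191529,8229295,9566937,15579797,11737626,13008881,6681281,12126870,4889072,12493886,13769128,16743353,8799901,11938212,807971,12380512,10920928,8826009,4862888,10087319,7650024])],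 [], [0,1], [2],
  [(1, [1,2952081,8428192,8875799,11763779,14065654,15628442]), (1, [1])]⟩

end Cfsg.Agent.H3.Co1Mult.P7
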